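import Cfsg.Agent.Lib.ReeTwoTrans.Torus
import Cfsg.Agent.Lib.PiWalter.ReeCent
import Cfsg.Agent.Lib.Solvable.Coprime
import Cfsg.Agent.Lib.SEBrick.Basic
import Mathlib.GroupTheory.FixedPointFree
import Mathlib.GroupTheory.GroupAction.MultipleTransitivity

/-!
A group of Ree order with involution centraliser `2 × PSL₂(q)` acts doubly transitively on the `q³ + 1`
cosets of `P H`, for a Sylow 3-subgroup `P` normalised by `H = ⟨τ⟩ × Zk`.
-/

set_option autoImplicit false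
set_option linter.unusedSectionVars false
set_option linter.style.haveILetI false

namespace Cfsg.Agent.ReeTwoTrans

open Subgroup Cfsg.Agent.JanThom Cfsg.Agent.PiWalter

universe u v

variable {G : Type u} [Group G] [Finite G] [IsSimpleGroup G] {L : Type v} [Group L] [Finite L] {Q : ℤ}
  {E : Setup G L Q}

/-- Membership in `ι(C₂ × Zk)`. -/
theorem mem_HH {x : G} :
    x ∈ (((⊤ : Subgroup C2).prod E.D.Zk).map E.ι) ↔ ∃ e, ∃ z ∈ E.D.Zk, E.ι (e, z) = x := by
  constructor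
  · rintro ⟨⟨e, z⟩, hz, rfl⟩
    exact ⟨e, z, (mem_prod.1 hz).2, rfl⟩
  · rintro ⟨e, z, hz, rfl⟩
    exact ⟨(e, z), mem_prod.2 ⟨mem_top _, hz⟩, rfl⟩

theorem card_HH : Nat.card (((⊤ : Subgroup C2).prod E.D.Zk).map E.ι) = 2 * E.D.k := by
  rw [card_map_of_injective E.inj, Nat.card_congr (Subgroup.prodEquiv _ _).toEquiv, Nat.card_prod,
    Subgroup.card_top, card_C2, E.D.card_Zk]

/-- A root group normalised by the torus and an involution outside its normaliser. -/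
theorem exists_root (H : IsReeSetup E) (h3 : ∃ n, Q.natAbs = 3 ^ n) :
    ∃ U : Subgroup L, IsPGroup 3 U ∧ U ≠ ⊥ ∧ E.D.Zk ≤ normalizer (U : Set L) ∧
      Odd (Nat.card (normalizer (U : Set L))) ∧
      (∀ R : Subgroup L, IsPGroup 3 R → U ≤ R → R = U) ∧
      (∀ b l : L, b * b = 1 → b * l * b⁻¹ = l⁻¹ → (∃ j, l ^ 3 ^ j = 1) → b ≠ 1 → l = 1) ∧
      ∀ g l : L, l ∈ U → g * l * g⁻¹ ∈ U → l ≠ 1 → g ∈ normalizer (U : Set L) := by
  classical
  obtain ⟨n, hn⟩ := h3
  haveI : Fact (Nat.Prime 3) := ⟨Nat.prime_three⟩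
  obtain ⟨hN, hq⟩ := card_norm E.D H.pos
  obtain ⟨g, hg⟩ := exists_torus_norm E.D H.pos
  set U := E.D.U.map (MulAut.conj g).toMonoidHom with hU
  have hUc : Nat.card U = 3 ^ n := by
    rw [hU, card_map_of_injective (MulAut.conj g).injective, E.D.card_U, hn]
  have hNU : Nat.card (normalizer (U : Set L)) = Q.natAbs * E.D.k := by
    rw [hU, ← hN, ← map_equiv_normalizer_eq, card_map_of_injective (MulAut.conj g).injective]
  have hodd : Odd (Nat.card (normalizer (U : Set L))) := by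
    rw [hNU, Nat.odd_mul]
    exact ⟨by rw [hq]; exact odd_two_mul_add_one _, E.D.k_odd'⟩
  have hfac : (Nat.card L).factorization 3 = n := by
    have hcl := E.D.card_L
    have h1 : ¬ 3 ∣ Q.natAbs ^ 2 - 1 := by
      have hn0 : n ≠ 0 := fun e => by have := E.D.Q_large; rw [hn, e] at this; norm_num at this
      have h3d : 3 ∣ Q.natAbs ^ 2 := dvd_pow (hn ▸ dvd_pow_self 3 hn0) two_ne_zero
      have : 0 < Q.natAbs ^ 2 := by have := E.D.Q_large; positivity
      omega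
    have h2 : (2 * Nat.card L).factorization 3 = (Nat.card L).factorization 3 := by
      rw [Nat.factorization_mul two_ne_zero Nat.card_pos.ne', Finsupp.add_apply,
        Nat.factorization_eq_zero_of_not_dvd (by norm_num : ¬ 3 ∣ 2), zero_add]
    rw [← h2, hcl, Nat.factorization_mul (show Q.natAbs ≠ 0 by have := E.D.Q_large; omega)
      (show Q.natAbs ^ 2 - 1 ≠ 0 from fun e => h1 (by rw [e]; exact dvd_zero 3)),
      Finsupp.add_apply, Nat.factorization_eq_zero_of_not_dvd h1, add_zero, hn,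
      Nat.prime_three.factorization_pow, Finsupp.single_eq_same]
  have hmax : ∀ R : Subgroup L, IsPGroup 3 R → U ≤ R → R = U := by
    intro R hR hUR
    obtain ⟨a, ha⟩ := IsPGroup.iff_card.1 hR
    have : 3 ^ a ∣ Nat.card L := ha ▸ card_subgroup_dvd_card R
    have hle := (Nat.prime_three.pow_dvd_iff_le_factorization Nat.card_pos.ne').1 this
    rw [hfac] at hle
    exact (eq_of_le_of_card_ge hUR (by rw [ha, hUc]; exact Nat.pow_le_pow_right (by norm_num) hle)).symm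
  have hTI : ∀ c l : L, l ∈ U → c * l * c⁻¹ ∈ U → l ≠ 1 → c ∈ normalizer (U : Set L) := by
    rintro c _ ⟨u, hu, rfl⟩ ⟨u', hu', he⟩ hl
    have hu1 : u ≠ 1 := fun e => hl (by rw [e]; simp)
    have h := E.D.ti_u u hu hu1 (g⁻¹ * c * g) (by
      have : g⁻¹ * c * g * u * (g⁻¹ * c * g)⁻¹ = u' := by
        have he' : g * u' * g⁻¹ = c * (g * u * g⁻¹) * c⁻¹ := he
        calc g⁻¹ * c * g * u * (g⁻¹ * c * g)⁻¹ = g⁻¹ * (c * (g * u * g⁻¹) * c⁻¹) * g := by group
          _ = u' := by rw [← he']; group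
      rw [this]; exact hu')
    rw [hU, ← map_equiv_normalizer_eq]
    exact ⟨_, h, by simp [mul_assoc]⟩
  refine ⟨U, IsPGroup.of_card hUc, fun e => ?_, hg, hodd, hmax, ?_, hTI⟩
  · rw [e, card_bot] at hUc
    have := E.D.Q_large
    rw [hn, ← hUc] at this
    omega
  · intro b l hb2 hbl ⟨j, hl⟩ hb1
    by_contra hl1
    obtain ⟨P, hP⟩ := (IsPGroup.of_card (n := (orderOf l).factorization 3) (by
      rw [Nat.card_zpowers]
      obtain ⟨i, -, hi⟩ := (Nat.dvd_prime_pow Nat.prime_three).1 (orderOf_dvd_of_pow_eq_one hl)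
      rw [hi, Nat.prime_three.factorization_pow, Finsupp.single_eq_same]) : IsPGroup 3 (zpowers l)).exists_le_sylow
    let PU : Sylow 3 L := ⟨U, IsPGroup.of_card hUc, fun {R} hR hUR => hmax R hR hUR⟩
    obtain ⟨c, hc⟩ := MulAction.exists_smul_eq L P PU
    have hlc : c * l * c⁻¹ ∈ U := by
      show _ ∈ (PU : Subgroup L)
      rw [← hc, Sylow.coe_subgroup_smul]
      exact ⟨l, hP (mem_zpowers l), rfl⟩
    have hN' := hTI (c * b * c⁻¹) _ hlc (by
      rw [show c * b * c⁻¹ * (c * l * c⁻¹) * (c * b * c⁻¹)⁻¹ = (c * l * c⁻¹)⁻¹ by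
        rw [show c * b * c⁻¹ * (c * l * c⁻¹) * (c * b * c⁻¹)⁻¹ = c * (b * l * b⁻¹) * c⁻¹ by group, hbl]; group]
      exact inv_mem hlc) (fun e => hl1 (conj_eq_one_iff.1 e))
    have h2 : orderOf (c * b * c⁻¹) = 2 := by
      rw [← MulAut.conj_apply, MulEquiv.orderOf_eq]
      exact orderOf_eq_prime (by rw [pow_two, hb2]) hb1
    have hd := _root_.orderOf_dvd_natCard (⟨_, hN'⟩ : normalizer (U : Set L))
    rw [← Subgroup.orderOf_coe] at hd
    have := hodd.of_dvd_nat (h2 ▸ hd)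
    exact absurd this (by decide)

/-- The `3`-part of an element of `C(τ)` lies in `L`. -/
theorem mem_L_of_three {x : G} (hx : x * E.τ = E.τ * x) (h3 : ∃ j, x ^ 3 ^ j = 1) :
    ∃ l : L, (∃ j, l ^ 3 ^ j = 1) ∧ E.ι (1, l) = x := by
  obtain ⟨⟨e, l⟩, rfl⟩ := E.cent x hx
  obtain ⟨j, hj⟩ := h3
  rw [← map_pow, ← map_one E.ι] at hj
  have h := E.inj hj
  have he : e ^ 3 ^ j = 1 := congrArg Prod.fst h
  have hl : l ^ 3 ^ j = 1 := congrArg Prod.snd h
  obtain ⟨i, hi⟩ : Odd (3 ^ j) := (by decide : Odd 3).pow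
  rw [hi, pow_succ, pow_mul, pow_two, C2_sq, one_pow, one_mul] at he
  exact ⟨l, ⟨j, hl⟩, by rw [he]⟩

/-- An odd normal subgroup of index two. -/
theorem exists_odd_normal {M : Subgroup G} (hτ : E.τ ∈ M) {U : Subgroup L}
    (hM : ∀ l : L, E.ι (1, l) ∈ M → l ∈ normalizer (U : Set L))
    (hodd : Odd (Nat.card (normalizer (U : Set L)))) :
    ∃ O : Subgroup G, O ≤ M ∧ Odd (Nat.card O) ∧ Nat.card M = 2 * Nat.card O ∧
      M ≤ normalizer (O : Set G) ∧ ∀ x ∈ M, Odd (orderOf x) → x ∈ O := by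
  classical
  haveI : Fact (Nat.Prime 2) := ⟨Nat.prime_two⟩
  have ht2 : orderOf E.τ = 2 := orderOf_eq_prime (by rw [pow_two, E.τ_sq]) E.τ_ne
  set tM : M := ⟨E.τ, hτ⟩ with htM
  have htM2 : orderOf tM = 2 := by rw [← Subgroup.orderOf_coe]; exact ht2
  have hmem : ∀ x ∈ zpowers tM, x = 1 ∨ x = tM := by
    intro x hx
    obtain ⟨i, rfl⟩ := mem_zpowers_iff.1 hx
    have htsq : tM ^ (2 : ℤ) = 1 := by
      rw [show (2 : ℤ) = ((2 : ℕ) : ℤ) from rfl, zpow_natCast, ← htM2, pow_orderOf_eq_one]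
    rcases Int.even_or_odd' i with ⟨j, rfl | rfl⟩
    · exact Or.inl (by rw [zpow_mul, htsq, one_zpow])
    · exact Or.inr (by rw [zpow_add_one, zpow_mul, htsq, one_zpow, one_mul])
  obtain ⟨S, hS⟩ := (IsPGroup.of_card (n := 1) (by rw [Nat.card_zpowers, htM2, pow_one]) :
    IsPGroup 2 (zpowers tM)).exists_le_sylow
  have hcS : ∀ y ∈ (S : Subgroup M), y * tM = tM * y → y ∈ zpowers tM := by
    intro y hy hyt
    obtain ⟨⟨e, l⟩, he⟩ := E.cent (y : G) (congrArg Subtype.val hyt)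
    have he1 : E.ι (e, 1) ∈ M := by
      rcases C2_cases e with rfl | rfl
      · rw [show ((1 : C2), (1 : L)) = 1 from rfl, map_one]; exact one_mem _
      · exact hτ
    have hl : E.ι (1, l) ∈ M := by
      have : E.ι (1, l) = E.ι (e, 1) * (y : G) := by rw [← he, ← map_mul, Prod.mk_mul_mk, C2_sq, one_mul]
      rw [this]
      exact mul_mem he1 y.2
    obtain ⟨k, hk⟩ := S.isPGroup' ⟨y, hy⟩
    have hk' : E.ι (e, l) ^ 2 ^ k = 1 := by
      rw [he]
      exact congrArg (fun w : (S : Subgroup M) => ((w : M) : G)) hk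
    rw [← map_pow, ← map_one E.ι] at hk'
    have hl2 : orderOf l ∣ 2 ^ k := orderOf_dvd_of_pow_eq_one (congrArg Prod.snd (E.inj hk'))
    have hlo : Odd (orderOf l) :=
      hodd.of_dvd_nat ((Subgroup.orderOf_coe ⟨l, hM l hl⟩).symm ▸ _root_.orderOf_dvd_natCard _)
    have hl1 : l = 1 := orderOf_eq_one_iff.1
      (Nat.eq_one_of_dvd_coprimes ((Nat.coprime_two_left.2 hlo).pow_left k) hl2 dvd_rfl)
    subst hl1
    rcases C2_cases e with rfl | rfl
    · rw [show y = 1 from Subtype.ext (he.symm.trans (map_one E.ι))]; exact one_mem _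
    · rw [show y = tM from Subtype.ext he.symm]; exact mem_zpowers _
  have hSt : (S : Subgroup M) = zpowers tM := by
    refine le_antisymm (fun y hy => hcS y hy ?_) hS
    haveI : Nontrivial (S : Subgroup M) := ⟨⟨⟨tM, hS (mem_zpowers _)⟩, 1, fun e => E.τ_ne
      (congrArg (fun w : (S : Subgroup M) => ((w : M) : G)) e)⟩⟩
    haveI := S.isPGroup'.center_nontrivial
    obtain ⟨⟨c, hc⟩, hc1⟩ := exists_ne (1 : center (S : Subgroup M))
    have hct : (c : M) = tM := by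
      refine (hmem _ (hcS _ c.2 ?_)).resolve_left fun e => hc1 (Subtype.ext (Subtype.ext e))
      exact (congrArg Subtype.val (mem_center_iff.1 hc ⟨tM, hS (mem_zpowers _)⟩)).symm
    have := congrArg Subtype.val (mem_center_iff.1 hc ⟨y, hy⟩)
    rw [← hct]; exact this
  have hle : normalizer ((S : Subgroup M) : Set M) ≤ centralizer ((S : Subgroup M) : Set M) := by
    intro n hn
    rw [mem_centralizer_iff]
    intro x hx
    rcases hmem x (hSt ▸ hx) with rfl | rfl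
    · simp
    · have h := (mem_normalizer_iff.1 hn tM).1 (hS (mem_zpowers _))
      rcases hmem _ (hSt ▸ h) with h | h
      · exact absurd (congrArg Subtype.val (conj_eq_one_iff.1 h)) E.τ_ne
      · exact (mul_inv_eq_iff_eq_mul.1 h).symm
  set O' := (MonoidHom.transferSylow S hle).ker with hO'
  have hc := (MonoidHom.ker_transferSylow_isComplement' S hle).card_mul_card
  rw [show Nat.card (S : Subgroup M) = 2 by rw [hSt, Nat.card_zpowers, htM2]] at hc
  have hcO : Nat.card (O'.map M.subtype) = Nat.card O' := card_map_of_injective M.subtype_injective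
  have hodd' : Odd (Nat.card O') := by
    rw [Nat.odd_iff, ← Nat.two_dvd_ne_zero]
    exact MonoidHom.not_dvd_card_ker_transferSylow S hle
  refine ⟨O'.map M.subtype, map_subtype_le _, hcO ▸ hodd', by rw [hcO, mul_comm, hc], ?_, fun x hx ho => ?_⟩
  · exact le_trans (le_of_eq (by rw [normalizer_eq_top O', ← MonoidHom.range_eq_map, range_subtype]))
      (le_normalizer_map M.subtype)
  · refine ⟨⟨x, hx⟩, MonoidHom.mem_ker.2 (orderOf_eq_one_iff.1 ?_), rfl⟩
    obtain ⟨k, hk⟩ := S.isPGroup' (MonoidHom.transferSylow S hle ⟨x, hx⟩)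
    exact Nat.eq_one_of_dvd_coprimes ((Nat.coprime_two_left.2 ho).pow_left k)
      (orderOf_dvd_of_pow_eq_one hk) ((orderOf_map_dvd _ _).trans (by rw [← Subgroup.orderOf_coe]))

/-- A Sylow 3-subgroup normalised by `⟨τ⟩ × Zk`, meeting `L` in the root group. -/
theorem exists_sylow_HH (H : IsReeSetup E) (h3 : ∃ n, Q.natAbs = 3 ^ n) :
    ∃ (U : Subgroup L) (P : Sylow 3 G),
      (((⊤ : Subgroup C2).prod E.D.Zk).map E.ι) ≤ normalizer ((P : Subgroup G) : Set G) ∧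
      (∀ l : L, E.ι (1, l) ∈ (P : Subgroup G) → l ∈ U) ∧ Odd (Nat.card (normalizer (U : Set L))) ∧
      (∀ b l : L, b * b = 1 → b * l * b⁻¹ = l⁻¹ → (∃ j, l ^ 3 ^ j = 1) → b ≠ 1 → l = 1) ∧
      ∀ g l : L, l ∈ U → g * l * g⁻¹ ∈ U → l ≠ 1 → g ∈ normalizer (U : Set L) := by
  classical
  haveI : Fact (Nat.Prime 3) := ⟨Nat.prime_three⟩
  obtain ⟨U, hU3, hU1, hUZ, hUodd, hUmax, hinv, hTI⟩ := exists_root H h3
  set HH := ((⊤ : Subgroup C2).prod E.D.Zk).map E.ι with hHH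
  set ι₁ : L →* G := E.ι.comp (MonoidHom.inr C2 L) with hι₁
  have hι₁a : ∀ l, ι₁ l = E.ι (1, l) := fun _ => rfl
  have hι₁i : Function.Injective ι₁ := E.inj.comp fun a b h => congrArg Prod.snd h
  obtain ⟨P, hUP, ⟨hPp, hPH⟩, hmax⟩ := Finite.exists_le_maximal
    (p := fun S : Subgroup G => IsPGroup 3 S ∧ HH ≤ normalizer (S : Set G))
    (a := U.map ι₁) ⟨hU3.map _, by
      intro x hx
      obtain ⟨e, z, hz, rfl⟩ := mem_HH.1 hx
      refine SEBrick.mem_normalizer_of ?_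
      rintro _ ⟨l, hl, rfl⟩
      refine ⟨z * l * z⁻¹, (mem_normalizer_iff.1 (hUZ hz) l).1 hl, ?_⟩
      rw [hι₁a, hι₁a, ← map_inv, ← map_mul, ← map_mul, Prod.inv_mk, Prod.mk_mul_mk, Prod.mk_mul_mk,
        mul_one, mul_inv_cancel]⟩
  have hPL : ∀ l : L, E.ι (1, l) ∈ P → l ∈ U := by
    intro l hl
    have hc : IsPGroup 3 (P.comap ι₁) := hPp.comap_of_injective ι₁ hι₁i
    have := hUmax _ hc fun u hu => hUP ⟨u, hu, rfl⟩
    exact this ▸ (show l ∈ P.comap ι₁ from hl)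
  set M := normalizer (P : Set G) with hM
  have hML : ∀ l : L, E.ι (1, l) ∈ M → l ∈ normalizer (U : Set L) := fun l hl =>
    SEBrick.mem_normalizer_of fun u hu => hPL _ (by
      have := (mem_normalizer_iff.1 hl _).1 (hUP ⟨u, hu, rfl⟩)
      rwa [hι₁a, ← map_inv, ← map_mul, ← map_mul, Prod.inv_mk, Prod.mk_mul_mk, Prod.mk_mul_mk, inv_one,
        mul_one, mul_one] at this)
  have hτM : E.τ ∈ M := hPH (mem_HH.2 ⟨c2, 1, one_mem _, rfl⟩)
  obtain ⟨O, hOM, hOodd, hMO, hMnO, hOmem⟩ := exists_odd_normal hτM hML hUodd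
  set Z := E.D.Zk.map ι₁ with hZ
  have hZc : Nat.card Z = E.D.k := by rw [hZ, card_map_of_injective hι₁i, E.D.card_Zk]
  have hZO : Z ≤ O := by
    rintro _ ⟨z, hz, rfl⟩
    refine hOmem _ (hPH (mem_HH.2 ⟨1, z, hz, rfl⟩)) ?_
    rw [orderOf_injective ι₁ hι₁i]
    exact E.D.k_odd'.of_dvd_nat (E.D.card_Zk ▸ Subgroup.orderOf_dvd_natCard _ hz)
  -- transfer of `O` onto the torus
  set Z' := Z.subgroupOf O with hZ'
  have hZ'c : Nat.card Z' = E.D.k := by rw [Nat.card_congr (subgroupOfEquivOfLe hZO).toEquiv, hZc]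
  letI : CommGroup Z' := { (inferInstance : Group Z') with
    mul_comm := fun a b => by
      obtain ⟨x, hx, hxe⟩ := a.2
      obtain ⟨y, hy, hye⟩ := b.2
      refine Subtype.ext (Subtype.ext ?_)
      show ((a : O) : G) * ((b : O) : G) = ((b : O) : G) * ((a : O) : G)
      have hxe' : ι₁ x = ((a : O) : G) := hxe
      have hye' : ι₁ y = ((b : O) : G) := hye
      rw [← hxe', ← hye', ← map_mul, ← map_mul, E.D.Zk_comm x hx y hy] }
  set φ : O →* Z' := MonoidHom.transfer (MonoidHom.id Z') with hφ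
  have hkey : ∀ w : O, w ∈ Z' → ∀ g : O, g⁻¹ * w * g ∈ Z' → g⁻¹ * w * g = w := by
    intro w hw g hg
    obtain ⟨z, hz, hze⟩ := mem_subgroupOf.1 hw
    obtain ⟨z', hz', hze'⟩ := mem_subgroupOf.1 hg
    by_cases hz1 : z = 1
    · rw [hz1, map_one] at hze
      rw [show w = 1 from Subtype.ext hze.symm]; group
    have hgg : (g : G)⁻¹ * E.ι (1, z) * ((g : G)⁻¹)⁻¹ = E.ι (1, z') := by
      rw [inv_inv, ← hι₁a, ← hι₁a, hze, hze']; rfl
    rcases (H.fusion_k hz hz1 hz' hgg).2 with h | h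
    · refine Subtype.ext ?_
      rw [← hze', h]; exact hze
    · exfalso
      subst h
      set a := ι₁ z with ha
      set d := (g : G)⁻¹ with hd
      have hc : d * a * d⁻¹ = a⁻¹ := by rw [ha, ← map_inv, hι₁a, hι₁a]; exact hgg
      have hdo : Odd (orderOf d) := by
        rw [hd, orderOf_inv, Subgroup.orderOf_coe]
        exact hOodd.of_dvd_nat (_root_.orderOf_dvd_natCard _)
      have hao : Odd (orderOf a) := by
        rw [ha, orderOf_injective ι₁ hι₁i]
        exact E.D.k_odd'.of_dvd_nat (E.D.card_Zk ▸ Subgroup.orderOf_dvd_natCard _ hz)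
      have hstep : ∀ j : ℕ, d ^ (2 * j + 1) * a * (d ^ (2 * j + 1))⁻¹ = a⁻¹ := by
        intro j
        induction j with
        | zero => simpa using hc
        | succ j ih =>
          calc d ^ (2 * (j + 1) + 1) * a * (d ^ (2 * (j + 1) + 1))⁻¹
              = d * (d * (d ^ (2 * j + 1) * a * (d ^ (2 * j + 1))⁻¹) * d⁻¹) * d⁻¹ := by
                rw [show 2 * (j + 1) + 1 = 1 + 1 + (2 * j + 1) by ring, pow_add, pow_add, pow_one]; group
            _ = a⁻¹ := by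
              rw [ih, show d * a⁻¹ * d⁻¹ = a by rw [← conj_inv, hc, inv_inv], hc]
      obtain ⟨j, hj⟩ := hdo
      have h1 := hstep j
      rw [← hj, pow_orderOf_eq_one, one_mul, inv_one, mul_one] at h1
      refine hz1 (hι₁i ?_)
      rw [map_one]
      exact orderOf_eq_one_iff.1 (Nat.eq_one_of_dvd_coprimes (Nat.coprime_two_right.2 hao) dvd_rfl
        (orderOf_dvd_of_pow_eq_one (by rw [pow_two]; exact mul_eq_one_iff_eq_inv.2 h1)))
  have hφZ : ∀ w : Z', φ (w : O) = w ^ Z'.index := by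
    intro w
    rw [hφ, MonoidHom.transfer_eq_pow (MonoidHom.id Z') (w : O) fun k g₀ h => hkey _ (pow_mem w.2 k) g₀ h]
    exact Subtype.ext rfl
  have hcop : (Nat.card Z').Coprime Z'.index := by
    rw [hZ'c]
    refine Nat.coprime_of_dvd fun l hl hlk hli => ?_
    have hk0 : E.D.k ≠ 0 := by have := E.D.k_five'; omega
    have h1 : l ^ (E.D.k.factorization l + 1) ∣ Nat.card G := by
      refine dvd_trans ?_ ((card_subgroup_dvd_card O))
      rw [← Z'.index_mul_card, hZ'c, pow_succ, mul_comm]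
      exact Nat.mul_dvd_mul hli (Nat.ordProj_dvd _ _)
    have h2 := (hl.pow_dvd_iff_le_factorization Nat.card_pos.ne').1 h1
    rw [H.part_k hl hlk] at h2
    omega
  have hφs : Function.Surjective φ := fun w => by
    obtain ⟨v, hv⟩ := (Nat.Coprime.pow_left_bijective (n := Z'.index) hcop).2 w
    exact ⟨v, (hφZ v).trans hv⟩
  set K := φ.ker with hK
  have hKc : Nat.card K = Z'.index := by
    have h : K.index = Nat.card Z' := by
      rw [hK, index_ker, MonoidHom.range_eq_top.2 hφs, Subgroup.card_top]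
    have h1 := K.index_mul_card
    rw [h, ← Z'.index_mul_card, mul_comm Z'.index] at h1
    exact Nat.eq_of_mul_eq_mul_left Nat.card_pos h1
  have hKmem : ∀ x : O, x ^ Nat.card K = 1 → x ∈ K := fun x hx => by
    refine MonoidHom.mem_ker.2 (orderOf_eq_one_iff.1 (Nat.eq_one_of_dvd_coprimes
      (hKc ▸ hcop.symm) ((orderOf_map_dvd φ x).trans (orderOf_dvd_of_pow_eq_one hx)) (_root_.orderOf_dvd_natCard _)))
  set K₁ := K.map O.subtype with hK₁
  have hK₁c : Nat.card K₁ = Nat.card K := card_map_of_injective O.subtype_injective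
  have hHM : HH ≤ M := hPH
  have hHK : HH ≤ normalizer (K₁ : Set G) := by
    intro h hh
    refine SEBrick.mem_normalizer_of ?_
    rintro _ ⟨x, hx, rfl⟩
    refine ⟨⟨h * x * h⁻¹, (mem_normalizer_iff.1 (hMnO (hHM hh)) _).1 x.2⟩, hKmem _ (Subtype.ext ?_), rfl⟩
    rw [Subgroup.coe_pow, conj_pow, ← Subgroup.coe_pow,
      show x ^ Nat.card K = 1 from orderOf_dvd_iff_pow_eq_one.1
        ((K.orderOf_coe ⟨x, hx⟩).symm ▸ _root_.orderOf_dvd_natCard _)]
    simp
  have hcopHK : (Nat.card HH).Coprime (Nat.card K₁) := by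
    rw [hHH, card_HH, hK₁c]
    refine Nat.Coprime.mul_left (Nat.coprime_two_left.2 (hOodd.of_dvd_nat (card_subgroup_dvd_card K))) ?_
    rw [← hZ'c, hKc]; exact hcop
  have h3mem : ∀ x ∈ M, (∃ j, x ^ 3 ^ j = 1) → x ∈ K₁ := by
    rintro x hx ⟨j, hj⟩
    have hxo : x ∈ O := hOmem x hx ((by decide : Odd 3).pow.of_dvd_nat (orderOf_dvd_of_pow_eq_one hj))
    have h3k : ¬ 3 ∣ E.D.k := by
      obtain ⟨n, hn⟩ := h3
      have hq := (card_norm E.D H.pos).2
      have hn0 : n ≠ 0 := fun e => by have := E.D.Q_large; rw [hn, e] at this; norm_num at this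
      have : 3 ∣ Q.natAbs := hn ▸ dvd_pow_self 3 hn0
      omega
    refine ⟨⟨x, hxo⟩, MonoidHom.mem_ker.2 (orderOf_eq_one_iff.1 (Nat.eq_one_of_dvd_coprimes
      ((Nat.prime_three.coprime_iff_not_dvd.2 (hZ'c.symm ▸ h3k)).pow_left j)
      ((orderOf_map_dvd φ _).trans (orderOf_dvd_of_pow_eq_one (Subtype.ext hj))) (_root_.orderOf_dvd_natCard _))), rfl⟩
  have hpel : ∀ (R : Subgroup G), IsPGroup 3 R → ∀ x ∈ R, ∃ j, x ^ 3 ^ j = 1 := fun R hR x hx => by
    obtain ⟨j, hj⟩ := hR ⟨x, hx⟩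
    exact ⟨j, congrArg Subtype.val hj⟩
  have hHsol : Group.IsSolvable HH := Group.isSolvable_of_comm (by
    rintro ⟨a, ha⟩ ⟨b, hb⟩
    obtain ⟨e, z, hz, rfl⟩ := mem_HH.1 ha
    obtain ⟨e', z', hz', rfl⟩ := mem_HH.1 hb
    exact Subtype.ext (by
      show E.ι (e, z) * E.ι (e', z') = E.ι (e', z') * E.ι (e, z)
      rw [← map_mul, ← map_mul, Prod.mk_mul_mk, Prod.mk_mul_mk, mul_comm e, E.D.Zk_comm z hz z' hz']))
  obtain ⟨R, hPR, hRH⟩ := CoprimeAct.exists_invariant_sylow_ge hHK hcopHK (Or.inl hHsol)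
    (fun x hx => h3mem x (le_normalizer hx) (hpel P hPp x hx)) hPp hPH
  have hRP : (R : Subgroup K₁).map K₁.subtype ≤ P := hmax ⟨R.isPGroup'.map _, hRH⟩ hPR
  have hsyl : ∀ V : Subgroup G, IsPGroup 3 V → P ≤ V → V = P := by
    intro V hV hPV
    by_contra hne
    haveI : Group.IsNilpotent V := hV.isNilpotent
    have hlt : P.subgroupOf V < ⊤ := lt_top_iff_ne_top.2 fun e => hne
      (le_antisymm (subgroupOf_eq_top.1 e) hPV)
    obtain ⟨y, hy, hy'⟩ := SetLike.exists_of_lt (Group.normalizerCondition_of_isNilpotent (G := V) _ hlt)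
    have hyM : (y : G) ∈ M := SEBrick.mem_normalizer_of fun q hq =>
      mem_subgroupOf.1 ((mem_normalizer_iff.1 hy ⟨q, hPV hq⟩).1 (mem_subgroupOf.2 hq))
    have hVM : IsPGroup 3 ((V ⊓ M).subgroupOf K₁) := (hV.to_le inf_le_left).comap_subtype
    have hRle : (R : Subgroup K₁) ≤ (V ⊓ M).subgroupOf K₁ := fun r hr =>
      mem_subgroupOf.2 (mem_inf.2 ⟨hPV (hRP ⟨r, hr, rfl⟩), le_normalizer (hRP ⟨r, hr, rfl⟩)⟩)
    have heq := R.is_maximal' hVM hRle
    refine hy' (mem_subgroupOf.2 (hRP ⟨⟨y, h3mem _ hyM (hpel V hV _ y.2)⟩, ?_, rfl⟩))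
    show _ ∈ (R : Subgroup K₁)
    rw [← heq]
    exact mem_subgroupOf.2 (mem_inf.2 ⟨y.2, hyM⟩)
  exact ⟨U, ⟨P, hPp, fun {V} hV hle => hsyl V hV hle⟩, hPH, hPL, hUodd, hinv, hTI⟩

/-- The Sylow 3-subgroups and `P H` give a doubly transitive action. -/
theorem exists_two_trans (H : IsReeSetup E) (h3 : ∃ n, Q.natAbs = 3 ^ n) :
    ∃ B : Subgroup G, B ≠ ⊤ ∧ MulAction.IsMultiplyPretransitive G (G ⧸ B) 2 := by
  classical
  haveI : Fact (Nat.Prime 3) := ⟨Nat.prime_three⟩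
  obtain ⟨q, hqQ, hqk, -, hG⟩ := H.arith
  obtain ⟨n, hn⟩ := id h3
  have hqn : q = 3 ^ n := by rw [← hn, ← hqQ]; simp
  have h11 : 11 ≤ q := by have := E.D.Q_large; rw [← hqQ] at this; simpa using this
  have hn0 : n ≠ 0 := fun e => by rw [hqn, e] at h11; norm_num at h11
  obtain ⟨U, P, hPH, hPL, hUodd, hinv, hTI⟩ := exists_sylow_HH H h3
  set HH := ((⊤ : Subgroup C2).prod E.D.Zk).map E.ι with hHH
  have h3q : 3 ∣ q := hqn ▸ dvd_pow_self 3 hn0
  have hPc : Nat.card (P : Subgroup G) = q ^ 3 := by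
    rw [P.card_eq_multiplicity, hG]
    have h1 : ¬ 3 ∣ (q ^ 3 + 1) * (q - 1) := by
      intro h
      have h3c : 3 ∣ q ^ 3 := dvd_pow h3q three_ne_zero
      rcases Nat.prime_three.dvd_mul.1 h with h | h <;> omega
    rw [mul_assoc, Nat.factorization_mul (pow_ne_zero _ (by omega)) (fun e => h1 (by rw [e]; exact dvd_zero 3)),
      Finsupp.add_apply, Nat.factorization_eq_zero_of_not_dvd h1, add_zero, hqn, ← pow_mul,
      Nat.prime_three.factorization_pow, Finsupp.single_eq_same]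
  -- an involution inverting the torus
  obtain ⟨z, hz, hz1⟩ : ∃ z ∈ E.D.Zk, z ≠ 1 := by
    haveI : Nontrivial E.D.Zk := Finite.one_lt_card_iff_nontrivial.1 (by
      rw [E.D.card_Zk]; have := E.D.k_five'; omega)
    obtain ⟨z, hz⟩ := exists_ne (1 : E.D.Zk)
    exact ⟨z, z.2, fun e => hz (Subtype.ext e)⟩
  obtain ⟨a, ha2, ha1, haz⟩ := H.exists_inverting hz hz1
  set w := E.ι (1, a) with hw
  have hwτ : w * E.τ = E.τ * w := E.τ_comm _
  have hw2 : w * w = 1 := by rw [hw, ← map_mul, Prod.mk_mul_mk, ha2, mul_one]; exact map_one E.ι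
  set D := (P : Subgroup G) ⊓ (P : Subgroup G).map (MulAut.conj w).toMonoidHom with hD
  have hDw : ∀ {x : G}, x ∈ D ↔ x ∈ (P : Subgroup G) ∧ w * x * w⁻¹ ∈ (P : Subgroup G) := by
    intro x
    rw [hD, mem_inf]
    refine and_congr_right fun _ => ⟨?_, fun h => ⟨_, h, ?_⟩⟩
    · rintro ⟨y, hy, rfl⟩
      have : w * (MulAut.conj w y) * w⁻¹ = y := by
        rw [MulAut.conj_apply, inv_eq_of_mul_eq_one_right hw2]
        calc w * (w * y * w) * w = w * w * y * (w * w) := by group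
          _ = y := by rw [hw2]; group
      exact this.symm ▸ hy
    · show w * (w * x * w⁻¹) * w⁻¹ = x
      rw [inv_eq_of_mul_eq_one_right hw2]
      calc w * (w * x * w) * w = w * w * x * (w * w) := by group
        _ = x := by rw [hw2]; group
  have hτP : E.τ ∈ normalizer ((P : Subgroup G) : Set G) := hPH (mem_HH.2 ⟨c2, 1, one_mem _, rfl⟩)
  have hτD : ∀ x ∈ D, E.τ * x * E.τ⁻¹ ∈ D := fun x hx => by
    rw [hDw] at hx ⊢
    refine ⟨(mem_normalizer_iff.1 hτP _).1 hx.1, ?_⟩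
    rw [show w * (E.τ * x * E.τ⁻¹) * w⁻¹ = (w * E.τ) * x * (w * E.τ)⁻¹ by group, hwτ,
      show E.τ * w * x * (E.τ * w)⁻¹ = E.τ * (w * x * w⁻¹) * E.τ⁻¹ by group]
    exact (mem_normalizer_iff.1 hτP _).1 hx.2
  have hwD : ∀ x ∈ D, w * x * w⁻¹ ∈ D := fun x hx => by
    rw [hDw] at hx ⊢
    refine ⟨hx.2, ?_⟩
    rw [inv_eq_of_mul_eq_one_right hw2, show w * (w * x * w) * w = w * w * x * (w * w) by group, hw2,
      one_mul, mul_one]
    exact hx.1
  have hpel : ∀ x ∈ D, ∃ j, x ^ 3 ^ j = 1 := fun x hx => by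
    obtain ⟨j, hj⟩ := P.isPGroup' ⟨x, (hDw.1 hx).1⟩
    exact ⟨j, congrArg Subtype.val hj⟩
  have hfixτ : ∀ x ∈ D, E.τ * x * E.τ⁻¹ = x → x = 1 := by
    intro x hx hxτ
    by_contra hx1
    obtain ⟨l, -, rfl⟩ := mem_L_of_three (mul_inv_eq_iff_eq_mul.1 hxτ).symm (hpel x hx)
    have h' := hDw.1 hx
    have hl' : E.ι (1, a * l * a⁻¹) = w * E.ι (1, l) * w⁻¹ := by
      rw [hw, ← map_inv, ← map_mul, ← map_mul, Prod.inv_mk, Prod.mk_mul_mk, Prod.mk_mul_mk, inv_one,
        mul_one, mul_one]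
    have hN := hTI a l (hPL _ h'.1) (hPL _ (hl' ▸ h'.2)) (fun e => hx1 (by rw [e]; exact map_one E.ι))
    have := hUodd.of_dvd_nat ((orderOf_eq_prime (by rw [pow_two, ha2]) ha1 : orderOf a = 2) ▸
      (Subgroup.orderOf_coe ⟨a, hN⟩).symm ▸ _root_.orderOf_dvd_natCard _)
    exact absurd this (by decide)
  have hinvD : ∀ x ∈ D, E.τ * x * E.τ⁻¹ = x⁻¹ := by
    intro x hx
    let f : D →* D :=
      { toFun := fun y => ⟨E.τ * y * E.τ⁻¹, hτD y y.2⟩
        map_one' := Subtype.ext (by simp)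
        map_mul' := fun y y' => Subtype.ext (by simp [mul_assoc]) }
    have hf : MonoidHom.FixedPointFree f := fun y hy => Subtype.ext (hfixτ y y.2 (congrArg Subtype.val hy))
    have hf2 : Function.Involutive f := fun y => Subtype.ext (by
      show E.τ * (E.τ * (y : G) * E.τ⁻¹) * E.τ⁻¹ = y
      rw [inv_eq_of_mul_eq_one_right E.τ_sq,
        show E.τ * (E.τ * (y : G) * E.τ) * E.τ = E.τ * E.τ * y * (E.τ * E.τ) by group, E.τ_sq, one_mul,
        mul_one])
    exact congrArg Subtype.val (congrFun (hf.coe_eq_inv_of_involutive hf2) ⟨x, hx⟩)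
  -- fixed points of the other two involutions
  have hfix : ∀ c : G, c * c = 1 → c ≠ 1 → c ≠ E.τ → c * E.τ = E.τ * c →
      ∀ x ∈ D, c * x * c⁻¹ = x → x = 1 := by
    intro c hc2 hc1 hcτ hcc x hx hcx
    obtain ⟨g, hg⟩ := isConj_iff.1 (E.conj_t hc2 hc1)
    obtain ⟨j, hj⟩ := hpel x hx
    have hy : g⁻¹ * x * g * E.τ = E.τ * (g⁻¹ * x * g) := by
      have h1 : c * x = x * c := mul_inv_eq_iff_eq_mul.1 hcx
      calc g⁻¹ * x * g * E.τ = g⁻¹ * (x * (g * E.τ * g⁻¹)) * g := by group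
        _ = g⁻¹ * ((g * E.τ * g⁻¹) * x) * g := by rw [hg, h1]
        _ = _ := by group
    obtain ⟨l, hl3, hl⟩ := mem_L_of_three hy ⟨j, by
      rw [show g⁻¹ * x * g = g⁻¹ * x * g⁻¹⁻¹ by rw [inv_inv], conj_pow, hj]; group⟩
    obtain ⟨⟨e, b⟩, hb⟩ := E.cent (g⁻¹ * E.τ * g) (by
      calc g⁻¹ * E.τ * g * E.τ = g⁻¹ * (E.τ * (g * E.τ * g⁻¹)) * g := by group
        _ = g⁻¹ * ((g * E.τ * g⁻¹) * E.τ) * g := by rw [hg, hcc]
        _ = _ := by group)
    have hbb : E.ι (e, b) * E.ι (e, b) = 1 := by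
      rw [hb, show g⁻¹ * E.τ * g * (g⁻¹ * E.τ * g) = g⁻¹ * (E.τ * E.τ) * g by group, E.τ_sq]; group
    rw [← map_mul, ← map_one E.ι] at hbb
    have hb2 : b * b = 1 := congrArg Prod.snd (E.inj hbb)
    have hb1 : b ≠ 1 := by
      intro h1
      subst h1
      rcases C2_cases e with rfl | rfl
      · exact E.τ_ne (conj_eq_one_iff.1 (show g⁻¹ * E.τ * g⁻¹⁻¹ = 1 by
          rw [inv_inv, ← hb]; exact map_one E.ι))
      · refine hcτ ?_
        rw [← hg]
        calc g * E.τ * g⁻¹ = g * (g⁻¹ * E.τ * g) * g⁻¹ := by rw [← hb]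
          _ = E.τ := by group
    have hbl : b * l * b⁻¹ = l⁻¹ := by
      have h : E.ι (e, b) * E.ι (1, l) * (E.ι (e, b))⁻¹ = (E.ι (1, l))⁻¹ := by
        rw [hb, hl,
          show g⁻¹ * E.τ * g * (g⁻¹ * x * g) * (g⁻¹ * E.τ * g)⁻¹ = g⁻¹ * (E.τ * x * E.τ⁻¹) * g by group,
          hinvD x hx]
        group
      rw [← map_inv, ← map_mul, ← map_mul, ← map_inv] at h
      exact congrArg Prod.snd (E.inj h)
    have hl1 := hinv b l hb2 hbl hl3 hb1
    subst hl1
    exact conj_eq_one_iff.1 (show g⁻¹ * x * g⁻¹⁻¹ = 1 by rw [inv_inv, ← hl]; exact map_one E.ι)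
  have hwne : w ≠ E.τ := fun e => c2_ne (congrArg Prod.fst (E.inj e)).symm
  have hw1 : w ≠ 1 := fun e => ha1 (congrArg Prod.snd (E.inj (e.trans (map_one E.ι).symm)))
  have hD1 : ∀ x ∈ D, x = 1 := by
    intro x hx
    have hc : ∀ y ∈ D, ∀ y' ∈ D, y * y' = y' * y := by
      intro y hy y' hy'
      have h := hinvD _ (mul_mem hy hy')
      rw [show E.τ * (y * y') * E.τ⁻¹ = E.τ * y * E.τ⁻¹ * (E.τ * y' * E.τ⁻¹) by group,
        hinvD y hy, hinvD y' hy', ← mul_inv_rev] at h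
      exact (inv_injective h).symm
    have h1 : x * (w * x * w⁻¹) = 1 := by
      refine hfix w hw2 hw1 hwne hwτ _ (mul_mem hx (hwD x hx)) ?_
      rw [show w * (x * (w * x * w⁻¹)) * w⁻¹ = w * x * w⁻¹ * (w * w * x * (w * w)⁻¹) by group, hw2, one_mul,
        inv_one, mul_one]
      exact hc _ (hwD x hx) _ hx
    have h2 : w * x * w⁻¹ = x⁻¹ := eq_inv_of_mul_eq_one_right h1
    refine hfix (E.τ * w) ?_ ?_ ?_ ?_ x hx ?_
    · rw [mul_assoc, ← mul_assoc w, hwτ, mul_assoc, hw2, mul_one, E.τ_sq]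
    · intro e
      exact hwne ((eq_inv_of_mul_eq_one_right e).trans (inv_eq_of_mul_eq_one_right E.τ_sq))
    · intro e
      exact hw1 (mul_eq_left.1 e)
    · rw [mul_assoc, hwτ]
    · rw [show E.τ * w * x * (E.τ * w)⁻¹ = E.τ * (w * x * w⁻¹) * E.τ⁻¹ by group, h2, ← conj_inv,
        hinvD x hx, inv_inv]
  -- the subgroup `P H`
  set B := (P : Subgroup G) ⊔ HH with hB
  have hBmem : ∀ x ∈ B, ∃ y ∈ (P : Subgroup G), ∃ h ∈ HH, x = y * h := fun x hx => by
    rw [hB, ← SetLike.mem_coe, coe_mul_of_right_le_normalizer_left _ _ hPH] at hx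
    obtain ⟨y, hy, h, hh, rfl⟩ := Set.mem_mul.1 hx
    exact ⟨y, hy, h, hh, rfl⟩
  have hHc : Nat.card HH = 2 * E.D.k := card_HH
  have hcop : (Nat.card (P : Subgroup G)).Coprime (Nat.card HH) := by
    rw [hPc, hHc, hqn, ← pow_mul]
    refine Nat.Coprime.pow_left _ ?_
    rw [Nat.prime_three.coprime_iff_not_dvd]
    omega
  have hBc : Nat.card B = q ^ 3 * (2 * E.D.k) := by
    let f : ↥(P : Subgroup G) × ↥HH → B := fun p => ⟨(p.1 : G) * p.2, mul_mem (mem_sup_left p.1.2) (mem_sup_right p.2.2)⟩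
    have hf : Function.Bijective f := by
      constructor
      · rintro ⟨y, h⟩ ⟨y', h'⟩ e
        have e' : (y : G) * h = y' * h' := congrArg Subtype.val e
        have e2 : (y' : G)⁻¹ * y = h' * (h : G)⁻¹ := by
          rw [eq_mul_inv_iff_mul_eq, mul_assoc, e', inv_mul_cancel_left]
        have hm1 : (y' : G)⁻¹ * y ∈ (P : Subgroup G) := mul_mem (inv_mem y'.2) y.2
        have hm2 : (y' : G)⁻¹ * y ∈ HH := e2 ▸ mul_mem h'.2 (inv_mem h.2)
        have h1 : (y' : G)⁻¹ * y = 1 := orderOf_eq_one_iff.1 (Nat.eq_one_of_dvd_coprimes hcop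
          ((Subgroup.orderOf_coe ⟨_, hm1⟩).symm ▸ _root_.orderOf_dvd_natCard _)
          ((Subgroup.orderOf_coe ⟨_, hm2⟩).symm ▸ _root_.orderOf_dvd_natCard _))
        have hy : y = y' := Subtype.ext (inv_mul_eq_one.1 h1).symm
        subst hy
        exact Prod.ext rfl (Subtype.ext (mul_left_cancel e'))
      · rintro ⟨x, hx⟩
        obtain ⟨y, hy, h, hh, rfl⟩ := hBmem x hx
        exact ⟨(⟨y, hy⟩, ⟨h, hh⟩), rfl⟩
    rw [← Nat.card_eq_of_bijective f hf, Nat.card_prod, hPc, hHc]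
  have hidx : B.index = q ^ 3 + 1 := by
    have h := B.index_mul_card
    rw [hBc, hG, show q - 1 = 2 * E.D.k by omega] at h
    refine Nat.eq_of_mul_eq_mul_right
      (show 0 < q ^ 3 * (2 * E.D.k) from Nat.mul_pos (pow_pos (by omega) 3) (by omega)) ?_
    rw [h]; ring
  have hBN : B ≤ normalizer ((P : Subgroup G) : Set G) := sup_le le_normalizer hPH
  have hP3 : ∀ x ∈ B, (∃ j, x ^ 3 ^ j = 1) → x ∈ (P : Subgroup G) := by
    intro x hx ⟨j, hj⟩
    have hxp : IsPGroup 3 (zpowers x) := IsPGroup.of_card (n := (orderOf x).factorization 3) (by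
      rw [Nat.card_zpowers]
      obtain ⟨i, -, hi⟩ := (Nat.dvd_prime_pow Nat.prime_three).1 (orderOf_dvd_of_pow_eq_one hj)
      rw [hi, Nat.prime_three.factorization_pow, Finsupp.single_eq_same])
    have := P.is_maximal' (P.isPGroup'.to_sup_of_normal_left' hxp (zpowers_le.2 (hBN hx))) le_sup_left
    exact this ▸ mem_sup_right (mem_zpowers x)
  have hwB : w ∉ B := by
    intro h
    have hN := hBN h
    obtain ⟨x, hx⟩ : ∃ x : (P : Subgroup G), x ≠ 1 := by
      haveI : Nontrivial (P : Subgroup G) := Finite.one_lt_card_iff_nontrivial.1 (by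
        rw [hPc]; exact Nat.one_lt_pow three_ne_zero (by omega))
      exact exists_ne 1
    exact hx (Subtype.ext (hD1 x (hDw.2 ⟨x.2, (mem_normalizer_iff.1 hN _).1 x.2⟩)))
  -- the orbit of the second point
  set x1 : G ⧸ B := (w : G ⧸ B) with hx1
  set St := MulAction.stabilizer B x1 with hSt
  have hmemSt : ∀ b : B, b ∈ St → w * (b : G) * w⁻¹ ∈ B := by
    intro b hb
    have h : ((b : G) * w : G) = (w : G ⧸ B) := MulAction.mem_stabilizer_iff.1 hb
    have h' := QuotientGroup.eq.1 h.symm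
    rw [inv_eq_of_mul_eq_one_right hw2] at h' ⊢
    rwa [← mul_assoc] at h'
  have hSt3 : ¬ 3 ∣ Nat.card St := by
    intro h
    obtain ⟨b, hb⟩ := exists_prime_orderOf_dvd_card' 3 h
    have hb3 : ((b : B) : G) ^ 3 ^ 1 = 1 := by
      rw [pow_one, ← Subgroup.coe_pow, ← Subgroup.coe_pow, ← hb, pow_orderOf_eq_one]; rfl
    have h1 := hP3 _ (b : B).2 ⟨1, hb3⟩
    have h2 := hP3 _ (hmemSt _ b.2) ⟨1, by rw [conj_pow, hb3]; group⟩
    have := hD1 _ (hDw.2 ⟨h1, h2⟩)
    rw [← Subgroup.orderOf_coe, ← Subgroup.orderOf_coe, this, orderOf_one] at hb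
    norm_num at hb
  have horb : q ^ 3 ≤ (MulAction.orbit B x1).ncard := by
    rw [← MulAction.index_stabilizer B x1, ← hSt]
    have h := St.index_mul_card
    rw [hBc] at h
    refine Nat.le_of_dvd (Nat.pos_of_ne_zero index_ne_zero_of_finite) ?_
    refine Nat.Coprime.dvd_of_dvd_mul_right ?_ (h.symm ▸ dvd_mul_right (q ^ 3) _)
    rw [hqn, ← pow_mul]
    exact (Nat.prime_three.coprime_iff_not_dvd.2 hSt3).pow_left _
  have hne0 : ∀ y ∈ MulAction.orbit B x1, y ≠ ((1 : G) : G ⧸ B) := by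
    rintro _ ⟨b, rfl⟩ e
    have h' := QuotientGroup.eq.1 (show (((b : G) * w : G) : G ⧸ B) = ((1 : G) : G ⧸ B) from e)
    rw [mul_one] at h'
    exact hwB ((mul_mem_cancel_left b.2).1 (inv_mem_iff.1 h'))
  have hall : ∀ y : G ⧸ B, y ≠ ((1 : G) : G ⧸ B) → y ∈ MulAction.orbit B x1 := by
    intro y hy
    by_contra hyo
    have hsub : insert y (insert ((1 : G) : G ⧸ B) (MulAction.orbit B x1)) ⊆ Set.univ := Set.subset_univ _
    have h := Set.ncard_le_ncard hsub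
    rw [Set.ncard_insert_of_notMem (by simp [hy, hyo]),
      Set.ncard_insert_of_notMem (fun h => hne0 _ h rfl), Set.ncard_univ,
      show Nat.card (G ⧸ B) = B.index from rfl, hidx] at h
    omega
  refine ⟨B, fun e => by rw [e, index_top] at hidx; have := pow_pos (show 0 < q by omega) 3; omega, ?_⟩
  rw [MulAction.is_two_pretransitive_iff]
  intro a b c d hab hcd
  obtain ⟨g, rfl⟩ := QuotientGroup.mk_surjective a
  obtain ⟨h, rfl⟩ := QuotientGroup.mk_surjective c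
  have hb' : g⁻¹ • b ≠ ((1 : G) : G ⧸ B) := fun e => hab (by
    rw [inv_smul_eq_iff] at e; rw [e]; exact congrArg QuotientGroup.mk (mul_one g).symm)
  have hd' : h⁻¹ • d ≠ ((1 : G) : G ⧸ B) := fun e => hcd (by
    rw [inv_smul_eq_iff] at e; rw [e]; exact congrArg QuotientGroup.mk (mul_one h).symm)
  obtain ⟨b1, hb1⟩ := hall _ hb'
  obtain ⟨b2, hb2⟩ := hall _ hd'
  refine ⟨h * ((b2 : G) * (b1 : G)⁻¹) * g⁻¹, ?_, ?_⟩
  · rw [MulAction.Quotient.smul_mk, QuotientGroup.eq, smul_eq_mul]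
    have : (h * ((b2 : G) * (b1 : G)⁻¹) * g⁻¹ * g)⁻¹ * h = (b1 : G) * (b2 : G)⁻¹ := by group
    rw [this]
    exact mul_mem b1.2 (inv_mem b2.2)
  · have e1 : (b1 : G) • x1 = g⁻¹ • b := hb1
    have e2 : (b2 : G) • x1 = h⁻¹ • d := hb2
    rw [mul_smul, mul_smul, mul_smul, ← e1, inv_smul_smul, e2, smul_inv_smul]

end Cfsg.Agent.ReeTwoTrans
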