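import Cfsg.Agent.Lib.JanThom.Setup
import Cfsg.Agent.Lib.JanThom.PSL2Data
import Cfsg.Agent.Lib.JanThom.LGram
import Mathlib.GroupTheory.Transfer
import Mathlib.GroupTheory.SchurZassenhaus

/-!
In `PSL₂(q)`, `q` odd, a conjugate of the root group `U` is normalised by the whole torus `Zk`.
-/

set_option autoImplicit false
set_option linter.unusedSectionVars false
set_option linter.style.haveILetI false

namespace Cfsg.Agent.ReeTwoTrans

open Subgroup Cfsg.Agent.JanThom
open scoped commutatorElement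

universe v

variable {L : Type v} [Group L] [Finite L] {Q : ℤ}

/-- The order of the normaliser of the root group, in the case `0 < Q`. -/
theorem card_norm (D : LData L Q) (hQ : 0 < Q) :
    Nat.card (normalizer (D.U : Set L)) = Q.natAbs * D.k ∧ Q.natAbs = 2 * D.k + 1 := by
  have h1 := D.card_NU
  have h2 := D.k_eq
  have h3 := D.Q_large
  have hq : Q.natAbs = 2 * D.k + 1 := by omega
  refine ⟨?_, hq⟩
  rw [hq, show 2 * D.k + 1 - 1 = 2 * D.k by omega] at h1
  rw [hq]
  nlinarith

/-- A torus normalises a conjugate of the root group. -/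
theorem exists_torus_norm (D : LData L Q) (hQ : 0 < Q) :
    ∃ g : L, D.Zk ≤ normalizer ((D.U.map (MulAut.conj g).toMonoidHom : Subgroup L) : Set L) := by
  classical
  obtain ⟨hN, hq⟩ := card_norm D hQ
  set N := normalizer (D.U : Set L) with hNd
  haveI hnor : (D.U.subgroupOf N).Normal := normal_in_normalizer
  have hU : Nat.card (D.U.subgroupOf N) = Q.natAbs := by
    rw [Nat.card_congr (subgroupOfEquivOfLe le_normalizer).toEquiv, D.card_U]
  have hidx : (D.U.subgroupOf N).index = D.k := by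
    have h := (D.U.subgroupOf N).index_mul_card
    rw [hU, hN, mul_comm] at h
    exact Nat.eq_of_mul_eq_mul_left (by omega) h
  obtain ⟨K, hK⟩ := exists_right_complement'_of_coprime (N := D.U.subgroupOf N) (by
    rw [hU, hidx, hq]
    exact (Nat.coprime_mul_right_add_left _ _ 2).2 (Nat.coprime_one_left _))
  have hKc : Nat.card K = D.k := by rw [← hK.symm.index_eq_card, hidx]
  set K0 := K.map N.subtype with hK0
  have hK0c : Nat.card K0 = D.k := by rw [hK0, card_map_of_injective N.subtype_injective, hKc]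
  have hk5 := D.k_five'
  have hodd : Odd (Nat.card K0) := hK0c ▸ D.k_odd'
  -- elements of `K0` lie in conjugates of the torus
  have hconj : ∀ x ∈ K0, x ≠ 1 → ∃ g : L, g * x * g⁻¹ ∈ D.Zk := by
    intro x hx hx1
    have hxk : orderOf x ∣ D.k := hK0c ▸ (K0.orderOf_coe ⟨x, hx⟩).symm ▸ orderOf_dvd_natCard _
    obtain ⟨g, hg | hg | hg⟩ := D.odd_cases x (D.k_odd'.of_dvd_nat hxk)
    · refine absurd ?_ hx1
      have hh : orderOf x ∣ D.h := by
        have := orderOf_dvd_natCard (⟨_, hg⟩ : D.Zh)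
        rwa [D.card_Zh, ← Subgroup.orderOf_coe, show ((⟨_, hg⟩ : D.Zh) : L) = MulAut.conj g x from rfl,
          MulEquiv.orderOf_eq] at this
      refine orderOf_eq_one_iff.1 (Nat.eq_one_of_dvd_coprimes ?_ hh hxk)
      have h1 := D.h_eq
      have h2 := D.k_eq
      have : 2 * D.h = D.k + 1 := by omega
      exact Nat.Coprime.coprime_mul_left (k := 2) (this ▸ Nat.coprime_self_add_left.2 (Nat.coprime_one_left _))
    · exact ⟨g, hg⟩
    · refine absurd ?_ hx1
      have hh : orderOf x ∣ Q.natAbs := by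
        have := orderOf_dvd_natCard (⟨_, hg⟩ : D.U)
        rwa [D.card_U, ← Subgroup.orderOf_coe, show ((⟨_, hg⟩ : D.U) : L) = MulAut.conj g x from rfl,
          MulEquiv.orderOf_eq] at this
      refine orderOf_eq_one_iff.1 (Nat.eq_one_of_dvd_coprimes ?_ hh hxk)
      rw [hq]; exact (Nat.coprime_mul_right_add_left _ _ 2).2 (Nat.coprime_one_left _)
  -- the centraliser and normaliser inside an odd group
  have hcen : ∀ x ∈ K0, x ≠ 1 → ∀ n ∈ K0, n * x * n⁻¹ ∈ zpowers x → n * x = x * n := by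
    intro x hx hx1 n hn hnx
    obtain ⟨g, hg⟩ := hconj x hx hx1
    have hzx : g * (n * x * n⁻¹) * g⁻¹ ∈ D.Zk := by
      obtain ⟨i, hi⟩ := mem_zpowers_iff.1 hnx
      rw [← hi, ← conj_zpow]
      exact zpow_mem hg i
    set z := g * x * g⁻¹ with hz
    have hz1 : z ≠ 1 := fun e => hx1 (conj_eq_one_iff.1 e)
    rcases D.ti_k z hg hz1 (g * n * g⁻¹) (by
      rw [show g * n * g⁻¹ * z * (g * n * g⁻¹)⁻¹ = g * (n * x * n⁻¹) * g⁻¹ by rw [hz]; group]; exact hzx) with h | h
    · have hc := D.Zk_comm _ h z hg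
      rw [hz] at hc
      have : g * (n * x) * g⁻¹ = g * (x * n) * g⁻¹ := by
        calc g * (n * x) * g⁻¹ = g * n * g⁻¹ * (g * x * g⁻¹) := by group
          _ = g * x * g⁻¹ * (g * n * g⁻¹) := hc
          _ = _ := by group
      exact mul_left_cancel (mul_right_cancel this)
    · exfalso
      have h' := h z hg
      have hi : n * x * n⁻¹ = x⁻¹ := by
        have : g * (n * x * n⁻¹) * g⁻¹ = g * x⁻¹ * g⁻¹ := by
          calc g * (n * x * n⁻¹) * g⁻¹ = g * n * g⁻¹ * z * (g * n * g⁻¹)⁻¹ := by rw [hz]; group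
            _ = z⁻¹ := h'
            _ = _ := by rw [hz]; group
        exact mul_left_cancel (mul_right_cancel this)
      have hno : Odd (orderOf n) := hodd.of_dvd_nat ((K0.orderOf_coe ⟨n, hn⟩).symm ▸ orderOf_dvd_natCard _)
      have hxo : Odd (orderOf x) := hodd.of_dvd_nat ((K0.orderOf_coe ⟨x, hx⟩).symm ▸ orderOf_dvd_natCard _)
      have hstep : ∀ j : ℕ, n ^ (2 * j + 1) * x * (n ^ (2 * j + 1))⁻¹ = x⁻¹ := by
        intro j
        induction j with
        | zero => simpa using hi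
        | succ j ih =>
          calc n ^ (2 * (j + 1) + 1) * x * (n ^ (2 * (j + 1) + 1))⁻¹
              = n * (n * (n ^ (2 * j + 1) * x * (n ^ (2 * j + 1))⁻¹) * n⁻¹) * n⁻¹ := by
                rw [show 2 * (j + 1) + 1 = 1 + 1 + (2 * j + 1) by ring, pow_add, pow_add, pow_one]; group
            _ = x⁻¹ := by
              rw [ih, show n * x⁻¹ * n⁻¹ = x by rw [← conj_inv, hi, inv_inv], hi]
      obtain ⟨j, hj⟩ := hno
      have h1 := hstep j
      rw [← hj, pow_orderOf_eq_one, one_mul, inv_one, mul_one] at h1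
      have h2 : x ^ 2 = 1 := by rw [pow_two]; exact mul_eq_one_iff_eq_inv.2 h1
      exact hx1 (orderOf_eq_one_iff.1 (Nat.eq_one_of_dvd_coprimes (Nat.coprime_two_right.2 hxo)
        dvd_rfl (orderOf_dvd_of_pow_eq_one h2)))
  -- `K0` is abelian
  have hab : ∀ a ∈ K0, ∀ b ∈ K0, a * b = b * a := by
    intro a ha b hb
    rw [← commutatorElement_eq_one_iff_mul_comm]
    by_contra hne
    have hmem : ⁅a, b⁆ ∈ K0 := by
      rw [commutatorElement_def]; exact mul_mem (mul_mem (mul_mem ha hb) (inv_mem ha)) (inv_mem hb)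
    obtain ⟨l, hl, hlo⟩ := Nat.exists_prime_and_dvd (fun e => hne (orderOf_eq_one_iff.1 e) : orderOf ⁅a, b⁆ ≠ 1)
    haveI : Fact l.Prime := ⟨hl⟩
    obtain ⟨S⟩ : Nonempty (Sylow l K0) := inferInstance
    have hSne : ∃ s ∈ (S : Subgroup K0), s ≠ 1 := by
      by_contra hcon
      push Not at hcon
      have hb : (S : Subgroup K0) = ⊥ := (eq_bot_iff_forall _).2 hcon
      have hd : l ∣ Nat.card K0 := hlo.trans ((K0.orderOf_coe ⟨_, hmem⟩).symm ▸ orderOf_dvd_natCard _)
      have := S.not_dvd_index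
      rw [hb, index_bot] at this
      exact this hd
    obtain ⟨s, hs, hs1⟩ := hSne
    have hle : normalizer ((S : Subgroup K0) : Set K0) ≤ centralizer ((S : Subgroup K0) : Set K0) := by
      -- the Sylow subgroup is cyclic
      haveI : Nontrivial (S : Subgroup K0) := ⟨⟨⟨s, hs⟩, 1, fun e => hs1 (congrArg Subtype.val e)⟩⟩
      haveI := S.isPGroup'.center_nontrivial
      obtain ⟨⟨c, hc⟩, hc1⟩ := exists_ne (1 : center (S : Subgroup K0))
      have hc1' : ((c : K0) : L) ≠ 1 := fun e => hc1 (Subtype.ext (Subtype.ext (Subtype.ext e)))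
      obtain ⟨g, hg⟩ := hconj _ (c : K0).2 hc1'
      have hSZ : ∀ x ∈ (S : Subgroup K0), g * (x : L) * g⁻¹ ∈ D.Zk := by
        intro x hx
        refine D.cent_k _ hg (fun e => hc1' (conj_eq_one_iff.1 e)) _ ?_
        have h := congrArg (fun y : (S : Subgroup K0) => ((y : K0) : L)) (mem_center_iff.1 hc ⟨x, hx⟩)
        simp only [Subgroup.coe_mul] at h
        calc g * (x : L) * g⁻¹ * (g * ((c : K0) : L) * g⁻¹) = g * ((x : L) * ((c : K0) : L)) * g⁻¹ := by group
          _ = g * (((c : K0) : L) * (x : L)) * g⁻¹ := by rw [h]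
          _ = _ := by group
      intro n hn
      rw [mem_centralizer_iff]
      intro x hx
      by_cases hx1 : x = 1
      · rw [hx1, one_mul, mul_one]
      refine Subtype.ext (hcen (x : L) x.2 (fun e => hx1 (Subtype.ext e)) (n : L) n.2 ?_).symm
      -- conjugates inside a cyclic group of the same order
      have hnx := (mem_normalizer_iff.1 hn x).1 hx
      haveI := D.Zk_cyclic
      haveI : IsCyclic D.Zk := D.Zk_cyclic
      let a' : D.Zk := ⟨_, hSZ _ hx⟩
      let b' : D.Zk := ⟨_, hSZ _ hnx⟩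
      have hord : orderOf b' = orderOf a' := by
        rw [← Subgroup.orderOf_coe, ← Subgroup.orderOf_coe]
        show orderOf (MulAut.conj g ((n * x * n⁻¹ : K0) : L)) = orderOf (MulAut.conj g (x : L))
        rw [MulEquiv.orderOf_eq, MulEquiv.orderOf_eq, Subgroup.orderOf_coe, Subgroup.orderOf_coe,
          show (n * x * n⁻¹ : K0) = MulAut.conj n x from rfl, MulEquiv.orderOf_eq]
      have hzz : zpowers b' = zpowers a' := eq_of_card_eq_cyclic (by
        rw [Nat.card_zpowers, Nat.card_zpowers, hord])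
      obtain ⟨i, hi⟩ := mem_zpowers_iff.1 (hzz ▸ mem_zpowers b' : b' ∈ zpowers a')
      refine mem_zpowers_iff.2 ⟨i, ?_⟩
      have hi' := congrArg Subtype.val hi
      simp only [SubgroupClass.coe_zpow, a', b', Subgroup.coe_mul, Subgroup.coe_inv] at hi'
      rw [conj_zpow] at hi'
      exact mul_left_cancel (mul_right_cancel hi')
    haveI : IsMulCommutative (S : Subgroup K0) := ⟨⟨fun x y => Subtype.ext
      (mem_centralizer_iff.1 (hle (le_normalizer y.2)) _ x.2)⟩⟩
    have hker : (⟨⁅a, b⁆, hmem⟩ : K0) ∈ (MonoidHom.transferSylow S hle).ker := by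
      rw [MonoidHom.mem_ker, show (⟨⁅a, b⁆, hmem⟩ : K0) = ⁅(⟨a, ha⟩ : K0), ⟨b, hb⟩⁆ from Subtype.ext rfl,
        map_commutatorElement, commutatorElement_eq_one_iff_mul_comm]
      exact mul_comm' _ _
    have hnd := MonoidHom.not_dvd_card_ker_transferSylow S hle
    exact hnd (hlo.trans ((K0.orderOf_coe ⟨_, hmem⟩).symm ▸
      ((MonoidHom.transferSylow S hle).ker.orderOf_coe ⟨_, hker⟩).symm ▸ orderOf_dvd_natCard _))
  haveI : Nontrivial K0 := Finite.one_lt_card_iff_nontrivial.1 (by omega)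
  obtain ⟨⟨x, hx⟩, hx1'⟩ := exists_ne (1 : K0)
  have hx1 : x ≠ 1 := fun e => hx1' (Subtype.ext e)
  obtain ⟨g, hg⟩ := hconj x hx hx1
  refine ⟨g, ?_⟩
  have hle : K0.map (MulAut.conj g).toMonoidHom ≤ D.Zk := by
    rintro _ ⟨y, hy, rfl⟩
    refine D.cent_k _ hg (fun e => hx1 (conj_eq_one_iff.1 e)) _ ?_
    show g * y * g⁻¹ * (g * x * g⁻¹) = g * x * g⁻¹ * (g * y * g⁻¹)
    calc g * y * g⁻¹ * (g * x * g⁻¹) = g * (y * x) * g⁻¹ := by group
      _ = g * (x * y) * g⁻¹ := by rw [hab y hy x hx]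
      _ = _ := by group
  rw [← eq_of_le_of_card_ge hle (by rw [card_map_of_injective (MulAut.conj g).injective, hK0c, D.card_Zk])]
  refine le_trans (map_mono ?_) (le_normalizer_map (H := D.U) (MulAut.conj g).toMonoidHom)
  exact hK0 ▸ map_subtype_le K

end Cfsg.Agent.ReeTwoTrans
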